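import Groth.Agent.Hensel.EtLikeNormal
import Groth.Agent.IndAlg.Etale
import Groth.Agent.ProEtW.WEFactor
import Groth.Agent.EGA4Lib.FibreComp
import Mathlib.RingTheory.Unramified.LocalRing

/-!
# Weakly étale algebras over normal rings are normal
-/

set_option autoImplicit false
set_option linter.style.haveILetI false

universe u

open TensorProduct IsLocalRing

namespace Groth.Agent.Fibres16.WENormal

variable {A D : Type u} [CommRing A] [CommRing D] [Algebra A D]

/-- The local rings of an algebra all of whose finitely presented subdata factor through étale algebras. -/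
theorem isEtLike_localRingHom (h : IndAlg.Fac (IndAlg.Etale.Et A) D) (P : Ideal D) [P.IsPrime] :
    @Hensel.IsEtLike (Localization.AtPrime (P.comap (algebraMap A D))) (Localization.AtPrime P) _ _ _ _
      (Localization.localRingHom (P.comap (algebraMap A D)) P (algebraMap A D) rfl).toAlgebra := by
  classical
  let p := P.comap (algebraMap A D)
  let R := Localization.AtPrime p
  let S := Localization.AtPrime P
  letI : Algebra R S := (Localization.localRingHom p P (algebraMap A D) rfl).toAlgebra
  haveI : IsScalarTower A R S := IsScalarTower.of_algebraMap_eq fun a => by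
    rw [RingHom.algebraMap_toAlgebra, Localization.localRingHom_to_map, IsScalarTower.algebraMap_apply A D S]
  refine ⟨?_, ?_, fun s => ?_⟩
  · haveI := IndAlg.Etale.flat h
    haveI : Module.Flat D S := IsLocalization.flat S P.primeCompl
    haveI : Module.Flat A S := Module.Flat.trans A D S
    exact (Module.flat_iff_of_isLocalization (R := A) R p.primeCompl S).mpr inferInstance
  · refine le_antisymm (Ideal.map_le_iff_le_comap.2 fun x hx => ?_) fun x hx => ?_
    · exact (Ideal.mem_comap).2 ((mem_maximalIdeal _).2 fun hu => hx (by
        haveI : IsLocalHom (algebraMap R S) := Localization.isLocalHom_localRingHom p P _ rfl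
        exact isUnit_of_map_unit (algebraMap R S) x hu))
    · obtain ⟨d, t, rfl⟩ := IsLocalization.exists_mk'_eq P.primeCompl x
      have hd : d ∈ P := (IsLocalization.AtPrime.mk'_mem_maximal_iff S P d t).1 hx
      obtain ⟨E, _, _, hE, v, w, hw⟩ := h (MvPolynomial (Fin 1) A) inferInstance (MvPolynomial.aeval fun _ => d)
      haveI : Algebra.Etale A E := hE
      let e := v (MvPolynomial.X 0)
      have hwe : w e = d := (congr($hw (MvPolynomial.X 0))).trans (MvPolynomial.aeval_X _ _)
      let q := P.comap w.toRingHom
      have hqp : p = q.comap (algebraMap A E) := by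
        rw [Ideal.comap_comap]
        exact congrArg (fun φ => Ideal.comap φ P) w.comp_algebraMap.symm
      let T := Localization.AtPrime q
      letI : Algebra R T := (Localization.localRingHom p q (algebraMap A E) hqp).toAlgebra
      haveI : IsLocalHom (algebraMap R T) := Localization.isLocalHom_localRingHom p q _ hqp
      haveI : IsScalarTower A R T := IsScalarTower.of_algebraMap_eq fun a => by
        rw [RingHom.algebraMap_toAlgebra, Localization.localRingHom_to_map, IsScalarTower.algebraMap_apply A E T]
      haveI : Algebra.FormallyUnramified E T := Algebra.FormallyUnramified.of_isLocalization q.primeCompl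
      haveI : Algebra.FormallyUnramified A T := Algebra.FormallyUnramified.comp A E T
      haveI : Algebra.FormallyUnramified R T := Algebra.FormallyUnramified.of_restrictScalars A R T
      haveI : Algebra.EssFiniteType A T := Algebra.EssFiniteType.comp A E T
      haveI : Algebra.EssFiniteType R T := Algebra.EssFiniteType.of_comp A R T
      have he : algebraMap E T e ∈ (maximalIdeal R).map (algebraMap R T) := by
        rw [Algebra.FormallyUnramified.map_maximalIdeal, IsLocalization.AtPrime.to_map_mem_maximal_iff T q]
        show w e ∈ P
        rwa [hwe]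
      let ψ : T →+* S := Localization.localRingHom q P w.toRingHom rfl
      have hψ : ψ.comp (algebraMap R T) = algebraMap R S :=
        IsLocalization.ringHom_ext p.primeCompl (RingHom.ext fun a => by
          show ψ (Localization.localRingHom p q (algebraMap A E) hqp (algebraMap A R a)) =
            Localization.localRingHom p P (algebraMap A D) rfl (algebraMap A R a)
          rw [Localization.localRingHom_to_map, Localization.localRingHom_to_map]
          exact (congrArg (algebraMap D S) (w.commutes a)).trans (Localization.localRingHom_to_map _ _ _ rfl a).symm)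
      have hdm : algebraMap D S d ∈ (maximalIdeal R).map (algebraMap R S) := by
        have h1 := Ideal.mem_map_of_mem ψ he
        rw [Ideal.map_map, hψ, Localization.localRingHom_to_map] at h1
        exact hwe ▸ h1
      rw [IsLocalization.mk'_eq_mul_mk'_one]
      exact Ideal.mul_mem_right _ _ hdm
  · choose a b hab using fun z : S => IsLocalization.exists_mk'_eq P.primeCompl z
    obtain ⟨E, _, _, hE, v, w, hw⟩ := h (MvPolynomial (Fin s.card ⊕ Fin s.card) A) inferInstance
      (MvPolynomial.aeval (Sum.elim (fun i => a (s.equivFin.symm i).1) fun i => (b (s.equivFin.symm i).1 : D)))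
    haveI : Algebra.Etale A E := hE
    have hval : ∀ j, w (v (MvPolynomial.X j)) =
        Sum.elim (fun i => a (s.equivFin.symm i).1) (fun i => (b (s.equivFin.symm i).1 : D)) j := fun j =>
      (congr($hw (MvPolynomial.X j))).trans (MvPolynomial.aeval_X _ _)
    let θ : R ⊗[A] E →ₐ[R] S := Algebra.TensorProduct.lift (Algebra.ofId R S)
      ((IsScalarTower.toAlgHom A D S).comp w) fun _ _ => Commute.all _ _
    let den : R ⊗[A] E := (1 : R) ⊗ₜ[A] ∏ i, v (MvPolynomial.X (Sum.inr i))
    have hden : IsUnit (θ den) := by
      rw [Algebra.TensorProduct.lift_tmul, map_one, one_mul, map_prod]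
      refine IsUnit.prod_iff.2 fun i _ => ?_
      show IsUnit (algebraMap D S (w (v (MvPolynomial.X (Sum.inr i)))))
      rw [hval]
      exact IsLocalization.map_units S (b (s.equivFin.symm i).1)
    let F := Localization.Away den
    haveI : Algebra.Etale (R ⊗[A] E) F := Algebra.Etale.of_isLocalizationAway den
    have hu : ∀ y : Submonoid.powers den, IsUnit (θ y) := by
      rintro ⟨_, n, rfl⟩
      show IsUnit (θ (den ^ n))
      rw [map_pow]
      exact hden.pow n
    let χ : F →ₐ[R] S := IsLocalization.liftAlgHom (M := Submonoid.powers den) hu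
    refine ⟨F, inferInstance, inferInstance, Algebra.Etale.comp R (R ⊗[A] E) F, χ, fun z hz => ?_⟩
    let i := s.equivFin ⟨z, hz⟩
    have hi : (s.equivFin.symm i).1 = z := by simp [i]
    obtain ⟨c, hc⟩ : IsUnit (algebraMap (R ⊗[A] E) F ((1 : R) ⊗ₜ[A] v (MvPolynomial.X (Sum.inr i)))) := by
      refine isUnit_of_dvd_unit (map_dvd _ ?_) (IsLocalization.Away.algebraMap_isUnit den)
      exact map_dvd Algebra.TensorProduct.includeRight (Finset.dvd_prod_of_mem _ (Finset.mem_univ i))
    refine ⟨algebraMap (R ⊗[A] E) F ((1 : R) ⊗ₜ[A] v (MvPolynomial.X (Sum.inl i))) * ↑c⁻¹, ?_⟩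
    have hχ : ∀ j, χ (algebraMap (R ⊗[A] E) F ((1 : R) ⊗ₜ[A] v (MvPolynomial.X j))) =
        algebraMap D S (Sum.elim (fun i => a (s.equivFin.symm i).1) (fun i => (b (s.equivFin.symm i).1 : D)) j) :=
      fun j => by
        refine (IsLocalization.lift_eq hu _).trans ?_
        show θ _ = _
        rw [Algebra.TensorProduct.lift_tmul, map_one, one_mul]
        exact congrArg (algebraMap D S) (hval j)
    have hcu : χ (c : F) * χ (↑c⁻¹ : F) = 1 := by rw [← map_mul, Units.mul_inv, map_one]
    show χ _ = z
    rw [map_mul, hχ]
    have hb : χ (c : F) = algebraMap D S (b z : D) := by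
      rw [hc, hχ]
      show algebraMap D S (b (s.equivFin.symm i).1 : D) = _
      rw [hi]
    show algebraMap D S (a (s.equivFin.symm i).1) * _ = z
    rw [hi, ← IsLocalization.mk'_spec' S (a z) (b z), hab, ← hb, mul_comm (χ _) z, mul_assoc, hcu, mul_one]

/-- Normality ascends along weakly étale algebras. -/
theorem isNormalRing_of_weaklyEtale (A B : Type u) [CommRing A] [CommRing B] [Algebra A B]
    [Algebra.WeaklyEtale A B] (hA : EGA4.IsNormalRing A) : EGA4.IsNormalRing B := by
  obtain ⟨D, _, _, _, _, _, -, hfac⟩ := ProEtW.WEFactor.exists_ff_indEtale A B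
  refine EGA4Lib.isNormalRing_of_faithfullyFlat B D fun P _ => ?_
  letI := (Localization.localRingHom (P.comap (algebraMap A D)) P (algebraMap A D) rfl).toAlgebra
  exact (isEtLike_localRingHom hfac P).normal_iff.1 (hA _)

end Groth.Agent.Fibres16.WENormal
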